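import Cfsg.Agent.Lib.ThreeInvol.Action
import Cfsg.Agent.Lib.PGroup.Critical

/-!
The automorphism group of a 2-group with three involutions is solvable (namespace `Cfsg.Agent.ThreeInvol`).

* `isSolvable_of_kernel`: solvability from a homomorphism with 2-group kernel and solvable range
* `isSolvable_mulAut_of_small_omega`: abelian 2-groups with at most four elements of order dividing 2
* `isSolvable_mulAut_of_four_squareRoots`: 2-groups with at most four elements of order dividing 2
-/

set_option autoImplicit false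
set_option linter.style.haveILetI false

namespace Cfsg.Agent.ThreeInvol

open Subgroup

theorem isPGroup_two_of_odd {A : Type*} [Group A] [Finite A]
    (h : ∀ a : A, Nat.Coprime (orderOf a) 2 → a = 1) : IsPGroup 2 A := by
  intro a
  have hne := (orderOf_pos a).ne'
  obtain ⟨k, m, hm, hkm⟩ := Nat.exists_eq_pow_mul_and_not_dvd hne 2 (by norm_num)
  refine ⟨k, h _ ?_⟩
  rw [orderOf_pow_of_dvd (by positivity) ⟨m, hkm⟩, hkm, Nat.mul_div_cancel_left _ (by positivity)]
  exact ((Nat.Prime.coprime_iff_not_dvd Nat.prime_two).2 hm).symm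

theorem isSolvable_of_kernel {A B : Type*} [Group A] [Finite A] [Group B] (f : A →* B)
    (hB : Group.IsSolvable f.range) (h : ∀ a ∈ f.ker, Nat.Coprime (orderOf a) 2 → a = 1) :
    Group.IsSolvable A := by
  have : Fact (Nat.Prime 2) := ⟨Nat.prime_two⟩
  have hp : IsPGroup 2 f.ker := isPGroup_two_of_odd fun a ha =>
    Subtype.ext (h a a.2 (by rwa [Subgroup.orderOf_coe]))
  have := hp.isNilpotent
  exact Group.isSolvable_of_ker_le_range f.ker.subtype f.rangeRestrict
    (by rw [MonoidHom.ker_rangeRestrict, range_subtype])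

/-- Abelian `2`-groups with at most four elements of order dividing `2`. -/
theorem isSolvable_mulAut_of_small_omega {Z : Type*} [CommGroup Z] [Finite Z] (hZ : IsPGroup 2 Z)
    (h4 : Nat.card {z : Z // z ^ 2 = 1} ≤ 4) : Group.IsSolvable (MulAut Z) := by
  have : Fact (Nat.Prime 2) := ⟨Nat.prime_two⟩
  have := Frobenius.isSolvable_perm_of_card_le h4
  let f : MulAut Z →* Equiv.Perm {z : Z // z ^ 2 = 1} :=
    { toFun := fun a => (a.toEquiv).subtypeEquiv fun z => by
        show z ^ 2 = 1 ↔ (a z) ^ 2 = 1
        rw [← map_pow, MulEquiv.map_eq_one_iff]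
      map_one' := rfl
      map_mul' := fun _ _ => rfl }
  refine isSolvable_of_kernel f inferInstance fun a ha hodd => MulEquiv.ext fun z => ?_
  exact PGroup.fixed_of_fix_order_p_abelian hZ hodd (A := ⊤) (fun x _ y _ => mul_comm x y)
    (fun x _ => mem_top _)
    (fun x _ hx => congrArg Subtype.val
      (congrArg (fun σ : Equiv.Perm {z : Z // z ^ 2 = 1} => σ ⟨x, hx⟩) (MonoidHom.mem_ker.1 ha)))
    z (mem_top z)

variable {X : Type*} [Group X] [Finite X]

theorem isSolvable_mulAut_of_four_squareRoots (hX : IsPGroup 2 X)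
    (h4 : Nat.card {x : X // x ^ 2 = 1} ≤ 4) : Group.IsSolvable (MulAut X) := by
  classical
  have : Fact (Nat.Prime 2) := ⟨Nat.prime_two⟩
  obtain ⟨C, hC⟩ := PGroup.exists_critical hX
  haveI := hC.char
  set Z := centralizer (C : Set X) with hZdef
  haveI : Z.Characteristic := PGroup.centralizer_characteristic C
  have hZC : Z ≤ C := hC.self_centralizing
  have hZc : ∀ z ∈ Z, ∀ x ∈ C, x * z = z * x := fun z hz x hx => mem_centralizer_iff.1 hz x hx
  letI : CommGroup Z :=
    { (inferInstance : Group Z) with mul_comm := fun a b => Subtype.ext (hZc b b.2 a (hZC a.2)) }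
  have hzsq : Nat.card {z : Z // z ^ 2 = 1} ≤ 4 := le_trans
    (Nat.card_le_card_of_injective
      (fun z : {z : Z // z ^ 2 = 1} => (⟨((z : Z) : X), by
        rw [← SubgroupClass.coe_pow, z.2]; rfl⟩ : {x : X // x ^ 2 = 1}))
      fun a b h => Subtype.ext (Subtype.ext (congrArg Subtype.val h :))) h4
  -- restriction to `Z`
  have := isSolvable_mulAut_of_small_omega (hX.to_subgroup Z) hzsq
  let res : MulAut X →* MulAut Z := FPF.resAct (MonoidHom.id (MulAut X)) Z
    (fun β x hx => (PGroup.aut_mem_iff β x).2 hx)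
  have hres : ∀ a, a ∈ res.ker → ∀ z ∈ Z, a z = z := fun a ha z hz =>
    congrArg Subtype.val (congrArg (fun e : MulAut Z => e ⟨z, hz⟩) (MonoidHom.mem_ker.1 ha))
  suffices hker : Group.IsSolvable res.ker from
    Group.isSolvable_of_ker_le_range res.ker.subtype res (by rw [range_subtype])
  -- the quotient `C / Z`
  set Z' : Subgroup C := Z.subgroupOf C
  have hZ'c : ∀ z ∈ Z', ∀ x : C, x * z = z * x := fun z hz x => Subtype.ext (hZc z hz x x.2)
  haveI : Z'.Normal := ⟨fun n hn g => by rw [hZ'c n hn g, mul_inv_cancel_right]; exact hn⟩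
  let d : C → C → C := fun x y => (x * y)⁻¹ * (y * x)
  have hd : ∀ x y, d x y ∈ Z' := fun x y => by
    show ((d x y : C) : X) ∈ Z
    have h := (hC.comm_mem _ (inv_mem y.2) (x : X)⁻¹).2
    simpa [d, commutatorElement_def, mul_assoc] using h
  let V := C ⧸ Z'
  letI : CommGroup V :=
    { (inferInstance : Group (C ⧸ Z')) with
      mul_comm := fun a b => by
        obtain ⟨x, rfl⟩ := QuotientGroup.mk_surjective a
        obtain ⟨y, rfl⟩ := QuotientGroup.mk_surjective b
        rw [← QuotientGroup.mk_mul, ← QuotientGroup.mk_mul]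
        exact QuotientGroup.eq.2 (hd x y) }
  have hsqZ : ∀ x : C, ((x : X)) ^ 2 ∈ Z := fun x => hC.pow_mem x x.2
  have hVsq : ∀ v : V, v * v = 1 := fun v => by
    obtain ⟨x, rfl⟩ := QuotientGroup.mk_surjective v
    show ((x * x : C) : V) = 1
    rw [QuotientGroup.eq_one_iff]
    show ((x * x : C) : X) ∈ Z
    rw [Subgroup.coe_mul, ← pow_two]
    exact hsqZ x
  -- the squaring map
  let sq : Z →* Z := powMonoidHom 2
  let U := Z ⧸ sq.range
  have hUsq : ∀ w : U, w * w = 1 := fun w => by
    obtain ⟨z, rfl⟩ := QuotientGroup.mk_surjective w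
    rw [← QuotientGroup.mk_mul, QuotientGroup.eq_one_iff]
    exact ⟨z, pow_two z⟩
  have hUcard : Nat.card U = Nat.card {z : Z // z ^ 2 = 1} := by
    have h1 := sq.range.card_mul_index
    have h2 := sq.ker.card_mul_index
    rw [Subgroup.index_ker] at h2
    have h3 : sq.range.index = Nat.card sq.ker := by
      refine Nat.eq_of_mul_eq_mul_left (Nat.card_pos (α := sq.range)) ?_
      rw [h1, ← h2, mul_comm]
    rw [← Subgroup.index_eq_card, h3]
    rfl
  let S : C → Z := fun x => ⟨(x : X) ^ 2, hsqZ x⟩
  have hSz : ∀ (x : C) (z : Z), S (x * ⟨z, hZC z.2⟩) = S x * sq z := fun x z => Subtype.ext <| by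
    show ((x : X) * z) ^ 2 = (x : X) ^ 2 * (z : X) ^ 2
    exact Commute.mul_pow (hZc z z.2 x x.2) 2
  let q : V → U := Quotient.lift (fun x : C => (QuotientGroup.mk (S x) : U)) fun a b hab => by
    have hm : (a⁻¹ * b : C) ∈ Z' := QuotientGroup.leftRel_apply.1 hab
    have e : S b = S a * sq ⟨((a⁻¹ * b : C) : X), hm⟩ := by
      rw [← hSz]
      congr 1
      exact Subtype.ext (by simp)
    rw [e, QuotientGroup.eq, inv_mul_cancel_left]
    exact ⟨_, rfl⟩
  have hqS : ∀ x : C, q (x : V) = (QuotientGroup.mk (S x) : U) := fun x => rfl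
  let D : C → C → Z := fun x y => ⟨d x y, hd x y⟩
  have hSmul : ∀ x y : C, S (x * y) = S x * S y * D x y := fun x y => Subtype.ext <| by
    show ((x : X) * y) ^ 2 = (x : X) ^ 2 * (y : X) ^ 2 * ((d x y : C) : X)
    have hc : Commute (y : X) ((d x y : C) : X) := hZc _ (hd x y) y y.2
    rw [pow_two, pow_two, pow_two]
    calc (x : X) * y * (x * y) = x * (x * y * ((d x y : C) : X)) * y := by simp [d, mul_assoc]
      _ = _ := by simp only [mul_assoc]; rw [hc.eq]
  have hd2 : ∀ x y z : C, d x (y * z) = d x y * d x z := fun x y z => mul_left_cancel (a := x * (y * z)) <| by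
      calc x * (y * z) * d x (y * z) = y * z * x := by simp [d, mul_assoc]
        _ = y * (x * z * d x z) := by simp [d, mul_assoc]
        _ = x * y * d x y * (z * d x z) := by simp [d, mul_assoc]
        _ = x * y * (d x y * z) * d x z := by simp only [mul_assoc]
        _ = x * (y * z) * (d x y * d x z) := by rw [← hZ'c _ (hd x y) z]; simp only [mul_assoc]
  have hD2 : ∀ x y z : C, D x (y * z) = D x y * D x z := fun x y z => Subtype.ext <|
    show ((d x (y * z) : C) : X) = ((d x y * d x z : C) : X) from congrArg Subtype.val (hd2 x y z)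
  have hq : IsQuad q := by
    refine ⟨?_, fun a b c => ?_⟩
    · show (QuotientGroup.mk (S 1) : U) = 1
      rw [show S 1 = 1 from Subtype.ext (one_pow 2)]
      rfl
    · obtain ⟨x, rfl⟩ := QuotientGroup.mk_surjective a
      obtain ⟨y, rfl⟩ := QuotientGroup.mk_surjective b
      obtain ⟨z, rfl⟩ := QuotientGroup.mk_surjective c
      show (QuotientGroup.mk (S (x * y * z)) : U) = QuotientGroup.mk (S (x * y)) * QuotientGroup.mk (S (x * z)) *
        QuotientGroup.mk (S (y * z)) * QuotientGroup.mk (S x) * QuotientGroup.mk (S y) * QuotientGroup.mk (S z)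
      have e : S (x * y) * S (x * z) * S (y * z) = S (x * y * z) * S x * S y * S z := by
        rw [mul_assoc x y z, hSmul x (y * z), hD2, hSmul y z, hSmul x y, hSmul x z]
        simp only [mul_assoc, mul_comm, mul_left_comm]
      have e' : (QuotientGroup.mk (S (x * y * z)) : U) * (QuotientGroup.mk (S x) * QuotientGroup.mk (S y) *
          QuotientGroup.mk (S z)) = QuotientGroup.mk (S (x * y)) * QuotientGroup.mk (S (x * z)) *
          QuotientGroup.mk (S (y * z)) := by
        simp only [← QuotientGroup.mk_mul]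
        rw [e]
        simp only [mul_assoc]
      have hU' : ∀ a b : U, b * a * a = b := fun a b => by rw [mul_assoc, hUsq, mul_one]
      calc (QuotientGroup.mk (S (x * y * z)) : U)
          = QuotientGroup.mk (S (x * y * z)) * (QuotientGroup.mk (S x) * QuotientGroup.mk (S y) *
              QuotientGroup.mk (S z)) * (QuotientGroup.mk (S x) * QuotientGroup.mk (S y) *
              QuotientGroup.mk (S z)) := (hU' _ _).symm
        _ = _ := by rw [e']; simp only [mul_assoc]
  -- the action
  let resC : res.ker →* MulAut C := (FPF.resAct (MonoidHom.id (MulAut X)) C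
    (fun β x hx => (PGroup.aut_mem_iff β x).2 hx)).comp res.ker.subtype
  have hresC : ∀ (a : res.ker) (x : C), ((resC a x : C) : X) = (a : MulAut X) x := fun a x => rfl
  have hmapZ : ∀ a : res.ker, Z'.map (resC a).toMonoidHom = Z' := fun a => by
    refine Subgroup.eq_of_le_of_card_ge ?_ (by rw [Subgroup.card_map_of_injective (resC a).injective])
    rintro _ ⟨x, hx, rfl⟩
    show (a : MulAut X) (x : X) ∈ Z
    have e : (a : MulAut X) (x : X) = (x : X) := hres a a.2 _ hx
    rw [e]
    exact hx
  let θ : res.ker →* MulAut V :=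
    { toFun := fun a => QuotientGroup.congr Z' Z' (resC a) (hmapZ a)
      map_one' := by
        ext v
        obtain ⟨x, rfl⟩ := QuotientGroup.mk_surjective v
        rfl
      map_mul' := fun a b => by
        ext v
        obtain ⟨x, rfl⟩ := QuotientGroup.mk_surjective v
        rfl }
  have hθ : ∀ (a : res.ker) (x : C), θ a (x : V) = ((resC a x : C) : V) := fun a x => rfl
  have hP : Preserves θ.range.subtype q := by
    refine ⟨θ.range.subtype_injective, fun g v => ?_⟩
    obtain ⟨a, ha⟩ := g.2
    obtain ⟨x, rfl⟩ := QuotientGroup.mk_surjective v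
    show q ((g : MulAut V) x) = q x
    rw [← ha, hθ, hqS, hqS]
    congr 1
    refine Subtype.ext ?_
    show ((a : MulAut X) (x : X)) ^ 2 = (x : X) ^ 2
    rw [← map_pow, hres a a.2 _ (hsqZ x)]
  -- zeros come from square roots of the identity
  have hzero : ∀ v : V, q v = 1 → ∃ t : C, (t : X) ^ 2 = 1 ∧ (t : V) = v := by
    intro v hv
    obtain ⟨x, rfl⟩ := QuotientGroup.mk_surjective v
    obtain ⟨z, hz⟩ := (QuotientGroup.eq_one_iff _).1 ((hqS x).symm.trans hv)
    refine ⟨x * ⟨(z⁻¹ : Z), hZC (z⁻¹ : Z).2⟩, ?_, ?_⟩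
    · have h := congrArg Subtype.val (hSz x z⁻¹)
      rw [map_inv, hz, mul_inv_cancel] at h
      simpa [S] using h
    · rw [QuotientGroup.eq]
      show ((((x * ⟨(z⁻¹ : Z), hZC (z⁻¹ : Z).2⟩ : C))⁻¹ * x : C) : X) ∈ Z
      simp
  have hrange : Group.IsSolvable θ.range := by
    by_cases htr : ∀ t : C, (t : X) ^ 2 = 1 → (t : X) ∈ Z
    · refine isSolvable_of_anisotropic hVsq hUsq (hUcard ▸ hzsq) hq (fun v hv => ?_) hP
      obtain ⟨t, ht, rfl⟩ := hzero v hv
      exact (QuotientGroup.eq_one_iff t).2 (htr t ht)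
    · push Not at htr
      obtain ⟨t₀, ht₀, ht₀Z⟩ := htr
      let Ω := {x : X // x ^ 2 = 1}
      have hle2 : Nat.card {z : Z // z ^ 2 = 1} ≤ 2 := by
        by_contra h3
        rw [not_le] at h3
        have h5 : Nat.card (Option {z : Z // z ^ 2 = 1}) ≤ 4 := by
          refine le_trans (Nat.card_le_card_of_injective
            (fun o => Option.elim o (⟨t₀, ht₀⟩ : Ω) fun z => ⟨((z : Z) : X), by
              rw [← SubgroupClass.coe_pow, z.2]; rfl⟩) ?_) h4
          rintro (_ | a) (_ | b) h <;> simp only [Option.elim_none, Option.elim_some, Subtype.mk.injEq] at h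
          · rfl
          · exact absurd (h ▸ (b : Z).2) ht₀Z
          · exact absurd (h ▸ (a : Z).2) ht₀Z
          · exact congrArg some (Subtype.ext (Subtype.ext h))
        have hker : Nat.card sq.ker = Nat.card {z : Z // z ^ 2 = 1} := rfl
        obtain ⟨k, hk⟩ := IsPGroup.iff_card.1 ((hX.to_subgroup Z).to_subgroup sq.ker)
        rw [Finite.card_option, ← hker, hk] at h5
        rw [← hker, hk] at h3
        rcases k with _ | _ | k
        · norm_num at h3
        · norm_num at h3
        · rw [pow_succ, pow_succ] at h5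
          have := Nat.one_le_two_pow (n := k)
          omega
      refine isSolvable_of_le_two_zeros hVsq hUsq (hUcard ▸ hle2) hq (e := (t₀ : V))
        (fun h => ht₀Z ((QuotientGroup.eq_one_iff t₀).1 h)) ?_ (fun v hv => ?_) hP
      · rw [hqS, show S t₀ = 1 from Subtype.ext ht₀]
        rfl
      · obtain ⟨t, ht, rfl⟩ := hzero v hv
        by_cases htZ : (t : X) ∈ Z
        · exact Or.inl ((QuotientGroup.eq_one_iff t).2 htZ)
        right
        have hXne : Nontrivial Z := by
          have : Nontrivial X := ⟨⟨t, 1, fun h => htZ (h ▸ one_mem _)⟩⟩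
          have := hX.center_nontrivial
          exact (Subgroup.inclusion_injective (Subgroup.center_le_centralizer (C : Set X))).nontrivial
        obtain ⟨n, hn0, hn⟩ := (hX.to_subgroup Z).nontrivial_iff_card.1 hXne
        obtain ⟨z, hz⟩ := exists_prime_orderOf_dvd_card' (G := Z) 2 (hn ▸ dvd_pow_self 2 hn0.ne')
        have hz1 : (z : X) ≠ 1 := fun h => by
          rw [show z = 1 from Subtype.ext h, orderOf_one] at hz
          norm_num at hz
        have hz2 : (z : X) ^ 2 = 1 := by
          rw [← SubgroupClass.coe_pow, ← hz, pow_orderOf_eq_one]; rfl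
        by_contra hne
        have hsame : (t₀ : C)⁻¹ * t ∉ Z' := fun h => hne (QuotientGroup.eq.2 h).symm
        have htz : ((t₀ : X) * z) ^ 2 = 1 := by
          rw [Commute.mul_pow (hZc z z.2 t₀ t₀.2), ht₀, hz2, one_mul]
        have hnodup : ([1, (z : X), (t₀ : X), (t₀ : X) * z, (t : X)] : List X).Nodup := by
          simp only [List.nodup_cons, List.mem_cons, List.not_mem_nil, or_false, List.nodup_nil, and_true,
            not_or, not_false_eq_true]
          refine ⟨⟨hz1.symm, fun h => ht₀Z (h ▸ one_mem _), fun h => ht₀Z ?_, fun h => htZ (h ▸ one_mem _)⟩,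
            ⟨fun h => ht₀Z (h ▸ z.2), fun h => ht₀Z ?_, fun h => htZ (h ▸ z.2)⟩,
            ⟨fun h => hz1 (by simpa using h), fun h => hsame ?_⟩, fun h => hsame ?_⟩
          · exact eq_inv_of_mul_eq_one_left h.symm ▸ inv_mem z.2
          · have e : (t₀ : X) = 1 := by simpa using h.symm
            rw [e]; exact one_mem _
          · show ((t₀⁻¹ * t : C) : X) ∈ Z
            simp [h]
          · show ((t₀⁻¹ * t : C) : X) ∈ Z
            simp [← h]
        have hsub : ∀ x ∈ ([1, (z : X), (t₀ : X), (t₀ : X) * z, (t : X)] : List X), x ^ 2 = 1 := by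
          simp [hz2, ht₀, ht, htz]
        have h5 : ([1, (z : X), (t₀ : X), (t₀ : X) * z, (t : X)] : List X).toFinset.card ≤ Nat.card Ω := by
          rw [← Nat.card_eq_finsetCard]
          exact Nat.card_le_card_of_injective (fun x => (⟨x.1, hsub _ (List.mem_toFinset.1 x.2)⟩ : Ω))
            fun a b h => Subtype.ext (congrArg Subtype.val h :)
        rw [List.toFinset_card_of_nodup hnodup] at h5
        have h6 := h5.trans h4
        simp only [List.length_cons, List.length_nil] at h6
        omega
  refine isSolvable_of_kernel θ hrange fun a ha hodd => Subtype.ext ?_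
  show (a : MulAut X) = 1
  have hodd' : Nat.Coprime (orderOf (a : MulAut X)) 2 := by rwa [Subgroup.orderOf_coe]
  refine PGroup.aut_eq_one_of_fix_selfCentralizing hX hC.self_centralizing hodd' fun x hx =>
    PGroup.fixed_of_displacement_fixed hX hodd' (hres a a.2 _ ?_)
  have h1 : θ a ((⟨x, hx⟩ : C) : V) = ((⟨x, hx⟩ : C) : V) :=
    congrArg (fun e : MulAut V => e ((⟨x, hx⟩ : C) : V)) (MonoidHom.mem_ker.1 ha)
  rw [hθ] at h1
  exact (QuotientGroup.eq.1 h1.symm : (⟨x, hx⟩ : C)⁻¹ * resC a ⟨x, hx⟩ ∈ Z')

end Cfsg.Agent.ThreeInvol
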