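import Cfsg.Agent.Lib.ThreeInvol.Deg
import Cfsg.Agent.Lib.Solvable.Converse
import Cfsg.Agent.Lib.Frobenius.SolvableAut

/-!
Groups preserving a quadratic map with few zeros (namespace `Cfsg.Agent.ThreeInvol`).

* `not_const_of_card`: a quadratic map is not constant on the nonidentity elements
* `isSolvable_of_anisotropic`: value group of order `≤ 4`, no nonzero zero
* `isSolvable_of_le_two_zeros`: value group of order `≤ 2`, at most one nonzero zero
-/

set_option autoImplicit false

namespace Cfsg.Agent.ThreeInvol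

open Subgroup

variable {V : Type*} [CommGroup V] [Finite V] {U : Type*} [CommGroup U]

theorem exists_not_mem_list {α : Type*} [Finite α] (l : List α) (h : l.length < Nat.card α) :
    ∃ x, x ∉ l := by
  classical
  have := Fintype.ofFinite α
  by_contra hne
  push Not at hne
  have : (Finset.univ : Finset α) ⊆ l.toFinset := fun x _ => List.mem_toFinset.2 (hne x)
  have h2 := (Finset.card_le_card this).trans (List.toFinset_card_le l)
  rw [Finset.card_univ, ← Nat.card_eq_fintype_card] at h2
  omega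

/-- No quadratic map is constant and nontrivial on the nonidentity elements in dimension `≥ 3`. -/
theorem not_const_of_card (hsq : ∀ v : V, v * v = 1) (hU : ∀ w : U, w * w = 1) {q : V → U} (hq : IsQuad q)
    {W : Subgroup V} (hW : 8 ≤ Nat.card W) {a : U} (ha : a ≠ 1) : ¬ ∀ x ∈ W, x ≠ 1 → q x = a := by
  intro h
  have hne : ∀ {u v : V}, u ≠ v → u * v ≠ 1 := fun {u v} huv e => huv (mul_right_cancel (e.trans (hsq v).symm))
  obtain ⟨x, hx⟩ := exists_not_mem_list [(1 : W)] (by simp; omega)
  obtain ⟨y, hy⟩ := exists_not_mem_list [(1 : W), x] (by simp; omega)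
  obtain ⟨z, hz⟩ := exists_not_mem_list [(1 : W), x, y, x * y] (by simp; omega)
  simp only [List.mem_cons, List.not_mem_nil, or_false, not_or] at hx hy hz
  have hx1 : (x : V) ≠ 1 := fun e => hx (Subtype.ext e)
  have hy1 : (y : V) ≠ 1 := fun e => hy.1 (Subtype.ext e)
  have hz1 : (z : V) ≠ 1 := fun e => hz.1 (Subtype.ext e)
  have h1 := h _ (mul_mem (mul_mem x.2 y.2) z.2) (hne fun e => hz.2.2.2 (Subtype.ext e.symm))
  rw [hq.2, h _ (mul_mem x.2 y.2) (hne fun e => hy.2 (Subtype.ext e.symm)),
    h _ (mul_mem x.2 z.2) (hne fun e => hz.2.1 (Subtype.ext e.symm)),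
    h _ (mul_mem y.2 z.2) (hne fun e => hz.2.2.1 (Subtype.ext e.symm)),
    h _ x.2 hx1, h _ y.2 hy1, h _ z.2 hz1] at h1
  refine ha (h1.symm.trans ?_)
  simp [mul_assoc, hU]

/-- The orbit of a moved point under a permutation of prime order. -/
theorem orbit_injective {α : Type*} (σ : Equiv.Perm α) {r : ℕ} (hr : r.Prime) (hσ : σ ^ r = 1) {x : α}
    (hx : σ x ≠ x) : Function.Injective fun i : Fin r => (σ ^ (i : ℕ)) x := by
  have hper : Function.IsPeriodicPt σ r x := by
    show (σ : α → α)^[r] x = x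
    rw [← Equiv.Perm.coe_pow, hσ]; rfl
  have hmin : Function.minimalPeriod σ x = r := by
    rcases (Nat.dvd_prime hr).1 hper.minimalPeriod_dvd with h | h
    · exact absurd (Function.minimalPeriod_eq_one_iff_isFixedPt.1 h) hx
    · exact h
  intro i j hij
  simp only [Equiv.Perm.coe_pow] at hij
  exact Fin.ext (Function.iterate_injOn_Iio_minimalPeriod (by simp [hmin]) (by simp [hmin]) hij)

theorem card_fixed_modEq {α : Type*} [Finite α] (σ : Equiv.Perm α) {r : ℕ} [Fact r.Prime] (hσ : σ ^ r = 1) :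
    Nat.card α ≡ Nat.card {x : α // σ x = x} [MOD r] := by
  classical
  have := Fintype.ofFinite α
  have h := Equiv.Perm.card_compl_support_modEq (n := 1) (σ := σ) (p := r) (by rwa [pow_one])
  rw [Nat.card_eq_fintype_card, Nat.card_eq_fintype_card]
  refine h.symm.trans ?_
  rw [show σ.supportᶜ = Finset.univ.filter fun x => σ x = x by ext; simp, Fintype.card_subtype]

/-- A fixed-point-free automorphism of order `7` is transitive on the nonidentity elements of a group of order `8`. -/
theorem orbit_seven {W : Type*} [CommGroup W] [Finite W] (σ : MulAut W) (hσ : σ ^ 7 = 1)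
    (hfix : ∀ x, σ x = x → x = 1) (hW : Nat.card W = 8) {x : W} (hx : x ≠ 1) (y : W) (hy : y ≠ 1) :
    ∃ i : ℕ, (σ ^ i) x = y := by
  classical
  have := Fintype.ofFinite W
  have hσ' : (σ.toEquiv : Equiv.Perm W) ^ 7 = 1 := by
    have : MulAut.toPerm W σ ^ 7 = 1 := by rw [← map_pow, hσ, map_one]
    exact this
  have hinj := orbit_injective (σ.toEquiv : Equiv.Perm W) (by norm_num : (7 : ℕ).Prime) hσ'
    (x := x) fun e => hx (hfix x e)
  have hpow : ∀ i : ℕ, ((σ.toEquiv : Equiv.Perm W) ^ i) x = (σ ^ i) x := fun i => by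
    rw [show (σ.toEquiv : Equiv.Perm W) = MulAut.toPerm W σ from rfl, ← map_pow]
    rfl
  let s : Finset W := Finset.univ.image fun i : Fin 7 => ((σ.toEquiv : Equiv.Perm W) ^ (i : ℕ)) x
  have hs : s = Finset.univ.erase 1 := by
    refine Finset.eq_of_subset_of_card_le (fun z hz => ?_) ?_
    · obtain ⟨i, -, rfl⟩ := Finset.mem_image.1 hz
      refine Finset.mem_erase.2 ⟨?_, Finset.mem_univ _⟩
      rw [hpow]
      simp [hx]
    · rw [Finset.card_erase_of_mem (Finset.mem_univ _), Finset.card_univ, ← Nat.card_eq_fintype_card, hW,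
        Finset.card_image_of_injective _ hinj, Finset.card_univ, Fintype.card_fin]
  have : y ∈ s := hs ▸ Finset.mem_erase.2 ⟨hy, Finset.mem_univ _⟩
  obtain ⟨i, -, hi⟩ := Finset.mem_image.1 this
  exact ⟨i, (hpow i).symm.trans hi⟩

theorem perm_five_step : ∀ σ : Equiv.Perm (Fin 5), σ ^ 3 = 1 → σ ≠ 1 →
    ∃ i, σ (i + 1) - σ i = 2 ∨ σ (i + 1) - σ i = 3 := by
  decide +kernel

variable {G : Type*} [Group G] [Finite G] {φ : G →* MulAut V} {q : V → U}

/-- The data used below. -/
structure Preserves (φ : G →* MulAut V) (q : V → U) : Prop where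
  inj : Function.Injective φ
  inv : ∀ g v, q (φ g v) = q v

omit [Finite V] [Finite G] in
theorem Preserves.inv_pow (hP : Preserves φ q) (g : G) (i : ℕ) (v : V) : q ((φ g ^ i) v) = q v := by
  rw [← map_pow]; exact hP.inv _ v

/-- The elements fixed by an automorphism. -/
def fixSub (σ : MulAut V) : Subgroup V where
  carrier := {x | σ x = x}
  one_mem' := map_one σ
  mul_mem' {a b} ha hb := by simp_all
  inv_mem' {a} ha := by simp_all

theorem card_fixSub_modEq (σ : MulAut V) {r : ℕ} [Fact r.Prime] (hσ : σ ^ r = 1) :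
    Nat.card V ≡ Nat.card (fixSub σ) [MOD r] :=
  card_fixed_modEq (σ.toEquiv : Equiv.Perm V) (by
    have : MulAut.toPerm V σ ^ r = 1 := by rw [← map_pow, hσ, map_one]
    exact this)

theorem prime_cases (hV : IsPGroup 2 V) (hc : Nat.card V ≤ 16) {r : ℕ} [hr : Fact r.Prime] (h5 : 5 ≤ r)
    (σ : MulAut V) (hσ : σ ^ r = 1) (hne : σ ≠ 1) :
    (r = 5 ∧ Nat.card V = 16 ∧ fixSub σ = ⊥) ∨
      (r = 7 ∧ Nat.card V = 8 * Nat.card (fixSub σ) ∧ Nat.card (fixSub σ) ≤ 2) := by
  have : Fact (Nat.Prime 2) := ⟨Nat.prime_two⟩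
  obtain ⟨n, hn⟩ := IsPGroup.iff_card.1 hV
  obtain ⟨k, hk⟩ := IsPGroup.iff_card.1 (hV.to_subgroup (fixSub σ))
  have hn4 : n ≤ 4 := (Nat.pow_le_pow_iff_right (a := 2) (by norm_num)).1 (by rw [← hn]; exact hc)
  have hlt : k < n := by
    refine (Nat.pow_lt_pow_iff_right (a := 2) (by norm_num)).1 ?_
    rw [← hn, ← hk]
    refine lt_of_le_of_ne (Subgroup.card_le_card_group _) fun he => hne ?_
    ext v
    exact (Subgroup.eq_top_of_card_eq _ he ▸ mem_top v : v ∈ fixSub σ)
  have hmod := card_fixSub_modEq σ hσ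
  rw [hn, hk] at hmod
  have hdvd : r ∣ 2 ^ n - 2 ^ k :=
    (Nat.modEq_iff_dvd' (Nat.pow_le_pow_right (by norm_num) hlt.le)).1 hmod.symm
  have hr15 : r ≤ 15 := (Nat.le_of_dvd (Nat.sub_pos_of_lt (Nat.pow_lt_pow_right (by norm_num) hlt)) hdvd).trans
    (by have := Nat.pow_le_pow_right (show 0 < 2 by norm_num) hn4
        have := Nat.one_le_two_pow (n := k)
        omega)
  have hrp := hr.out
  interval_cases n <;> interval_cases k <;> interval_cases r <;> (try norm_num at hdvd) <;> (try norm_num at hrp) <;> (try norm_num)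
  all_goals first
    | exact ⟨hn, Subgroup.eq_bot_of_card_eq _ (hk.trans (by norm_num))⟩
    | (refine ⟨?_, ?_⟩ <;> simp [hn, hk])

/-- No element of order `7`. -/
theorem no_seven (hsq : ∀ v : V, v * v = 1) (hU : ∀ w : U, w * w = 1) (hq : IsQuad q)
    (h0 : ∀ v, q v = 1 → v = 1) (hP : Preserves φ q) {g : G} (hg : φ g ^ 7 = 1)
    (h8 : Nat.card V = 8 * Nat.card (fixSub (φ g))) (hk : Nat.card (fixSub (φ g)) ≤ 2) : False := by
  have : Fact (Nat.Prime 7) := ⟨by norm_num⟩
  set σ := φ g
  let ψ : V →* V := MonoidHom.mk' (fun x => σ x * x⁻¹) fun a b => by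
    simp only [map_mul, mul_inv]
    exact mul_mul_mul_comm _ _ _ _
  have hker : ψ.ker = fixSub σ := by
    ext x
    exact mul_inv_eq_one
  have hcard : Nat.card ψ.range = 8 := by
    have h1 := ψ.ker.card_mul_index
    rw [Subgroup.index_ker, hker, h8] at h1
    exact Nat.eq_of_mul_eq_mul_left Nat.card_pos (h1.trans (mul_comm _ _))
  have hinv : ∀ x ∈ ψ.range, σ x ∈ ψ.range := by
    rintro _ ⟨y, rfl⟩
    exact ⟨σ y, by simp [ψ]⟩
  have hinv' : ∀ (i : ℕ), ∀ x ∈ ψ.range, (σ ^ i) x ∈ ψ.range := by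
    intro i
    induction i with
    | zero => exact fun x hx => hx
    | succ i ih => exact fun x hx => by rw [pow_succ']; exact hinv _ (ih x hx)
  have hinj : ψ.range.map σ.toMonoidHom = ψ.range :=
    Subgroup.eq_of_le_of_card_ge (Subgroup.map_le_iff_le_comap.2 hinv)
      (by rw [Subgroup.card_map_of_injective σ.injective])
  let τ : MulAut ψ.range := (ψ.range.equivMapOfInjective σ.toMonoidHom σ.injective).trans
    (MulEquiv.subgroupCongr hinj)
  have hτ : ∀ x : ψ.range, ((τ x : ψ.range) : V) = σ x := fun x => rfl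
  have hτi : ∀ (i : ℕ) (x : ψ.range), (((τ ^ i) x : ψ.range) : V) = (σ ^ i) x := by
    intro i x
    induction i with
    | zero => rfl
    | succ i ih => rw [pow_succ', pow_succ', MulAut.mul_apply, MulAut.mul_apply, hτ, ih]
  have hτ7 : τ ^ 7 = 1 := MulEquiv.ext fun x => Subtype.ext (by rw [hτi, hg]; rfl)
  have hτfix : ∀ x, τ x = x → x = 1 := by
    intro x hx
    have hmod := card_fixSub_modEq τ hτ7
    have hle : Nat.card (fixSub τ) ≤ 2 := by
      refine le_trans (Nat.card_le_card_of_injective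
        (fun z : fixSub τ => (⟨((z : ψ.range) : V), show σ ((z : ψ.range) : V) = _ by
          rw [← hτ]; exact congrArg Subtype.val z.2⟩ : fixSub σ)) fun a b h => ?_) hk
      exact Subtype.ext (Subtype.ext (congrArg Subtype.val h :))
    rw [hcard] at hmod
    have h1 : Nat.card (fixSub τ) = 1 := by
      have hpos : 0 < Nat.card (fixSub τ) := Nat.card_pos
      interval_cases h : Nat.card (fixSub τ)
      · rfl
      · exact absurd hmod (by decide)
    exact Subgroup.mem_bot.1 (Subgroup.eq_bot_of_card_eq _ h1 ▸ (hx : x ∈ fixSub τ))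
  obtain ⟨x, hx⟩ := exists_not_mem_list [(1 : ψ.range)] (by rw [hcard]; simp)
  simp only [List.mem_cons, List.not_mem_nil, or_false] at hx
  refine not_const_of_card hsq hU hq (W := ψ.range) hcard.ge
    (fun h => hx (Subtype.ext (h0 _ h)) : q (x : V) ≠ 1) fun y hy hy1 => ?_
  obtain ⟨i, hi⟩ := orbit_seven τ hτ7 hτfix hcard hx ⟨y, hy⟩ fun e => hy1 (congrArg Subtype.val e)
  have := congrArg Subtype.val hi
  rw [hτi] at this
  simp only at this
  rw [← this]
  exact hP.inv_pow g i x

/-- No elements of order `5` and `3` together. -/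
theorem no_five_three (hsq : ∀ v : V, v * v = 1) [Finite U] (hU : ∀ w : U, w * w = 1)
    (hcU : Nat.card U ≤ 4) (hq : IsQuad q) (h0 : ∀ v, q v = 1 → v = 1) (hP : Preserves φ q)
    {g h : G} (hg : φ g ^ 5 = 1) (hV : Nat.card V = 16) (hfix : fixSub (φ g) = ⊥)
    (hh : φ h ^ 3 = 1) (hne : φ h ≠ 1) : False := by
  classical
  have := Fintype.ofFinite V
  have := Fintype.ofFinite U
  have : Fact (Nat.Prime 5) := ⟨by norm_num⟩
  set σ := φ g
  have hfix' : ∀ x, σ x = x → x = 1 := fun x hx => Subgroup.mem_bot.1 (hfix ▸ (hx : x ∈ fixSub σ))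
  have hσ' : (MulAut.toPerm V σ) ^ 5 = 1 := by rw [← map_pow, hg, map_one]
  have hpow : ∀ (i : ℕ) (x : V), (MulAut.toPerm V σ ^ i) x = (σ ^ i) x := fun i x => by
    rw [← map_pow]; rfl
  -- a nonempty class has at least five elements
  let C : U → Finset V := fun a => Finset.univ.filter fun x => q x = a
  have horb : ∀ x : V, x ≠ 1 → Function.Injective (fun i : Fin 5 => (σ ^ (i : ℕ)) x) := by
    intro x hx
    have := orbit_injective (MulAut.toPerm V σ) (by norm_num : (5 : ℕ).Prime) hσ' (x := x) fun e => hx (hfix' x e)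
    simpa only [hpow] using this
  have hC : ∀ x : V, x ≠ 1 → 5 ≤ (C (q x)).card := by
    intro x hx
    refine le_trans (le_of_eq ?_) (Finset.card_le_card (s := Finset.univ.image fun i : Fin 5 => (σ ^ (i : ℕ)) x)
      fun z hz => ?_)
    · rw [Finset.card_image_of_injective _ (horb x hx), Finset.card_univ, Fintype.card_fin]
    · obtain ⟨i, -, rfl⟩ := Finset.mem_image.1 hz
      exact Finset.mem_filter.2 ⟨Finset.mem_univ _, hP.inv_pow g _ x⟩
  -- every nonidentity value occurs
  have hall : ∀ m : U, m ≠ 1 → ∃ x, x ≠ 1 ∧ q x = m := by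
    intro m hm
    by_contra hno
    push Not at hno
    have : (zpowers m).Normal := inferInstance
    have hUm : ∀ w : U ⧸ zpowers m, w * w = 1 := fun w => by
      obtain ⟨w, rfl⟩ := QuotientGroup.mk_surjective w
      rw [← QuotientGroup.mk_mul, hU]; rfl
    have hq' : IsQuad fun x => (QuotientGroup.mk (q x) : U ⧸ zpowers m) :=
      ⟨congrArg QuotientGroup.mk hq.1, fun x y z => congrArg QuotientGroup.mk (hq.2 x y z)⟩
    have hmem : ∀ w : U, w ∈ zpowers m → w = 1 ∨ w = m := by
      intro w hw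
      obtain ⟨k, rfl⟩ := Subgroup.mem_zpowers_iff.1 hw
      have hm2 : m ^ (2 : ℤ) = 1 := by rw [zpow_two]; exact hU m
      rcases Int.even_or_odd' k with ⟨j, rfl | rfl⟩
      · left; rw [zpow_mul, hm2, one_zpow]
      · right; rw [zpow_add, zpow_mul, hm2, one_zpow, one_mul, zpow_one]
    have h2 : Nat.card (U ⧸ zpowers m) ≤ 2 := by
      have h1 := (zpowers m).card_mul_index
      rw [Nat.card_zpowers, orderOf_eq_prime (by rw [pow_two]; exact hU m) hm, Subgroup.index_eq_card] at h1
      omega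
    obtain ⟨x, hx⟩ := exists_not_mem_list [(1 : V)] (by rw [hV]; simp)
    simp only [List.mem_cons, List.not_mem_nil, or_false] at hx
    have hval : ∀ y : V, y ≠ 1 → (QuotientGroup.mk (q y) : U ⧸ zpowers m) ≠ 1 := fun y hy he => by
      rcases hmem _ ((QuotientGroup.eq_one_iff _).1 he) with h | h
      · exact hy (h0 y h)
      · exact hno y hy h
    refine not_const_of_card hsq hUm hq' (W := ⊤) (by rw [Subgroup.card_top, hV]; norm_num)
      (hval x hx) fun y _ hy => ?_
    by_contra hne'
    have : 3 ≤ Nat.card (U ⧸ zpowers m) := by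
      have := Fintype.ofFinite (U ⧸ zpowers m)
      rw [Nat.card_eq_fintype_card]
      refine le_trans (le_of_eq ?_) (Finset.card_le_univ
        {(1 : U ⧸ zpowers m), QuotientGroup.mk (q x), QuotientGroup.mk (q y)})
      rw [Finset.card_insert_of_notMem, Finset.card_pair (Ne.symm hne')]
      simp only [Finset.mem_insert, Finset.mem_singleton, not_or]
      exact ⟨(hval x hx).symm, (hval y hy).symm⟩
    omega
  -- the class of `x` is its orbit
  obtain ⟨x, hx⟩ := exists_not_mem_list [(1 : V)] (by rw [hV]; simp)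
  simp only [List.mem_cons, List.not_mem_nil, or_false] at hx
  let u : Fin 5 → V := fun i => (σ ^ (i : ℕ)) x
  have hu : Function.Injective u := horb x hx
  set c := q x with hc
  have hqu : ∀ i, q (u i) = c := fun i => hP.inv_pow g _ x
  have hc1 : c ≠ 1 := fun e => hx (h0 x e)
  have hU4 : Nat.card U = 4 := by
    refine le_antisymm hcU ?_
    by_contra hlt
    have hU2 : IsPGroup 2 U := fun w => ⟨1, by rw [pow_one, pow_two]; exact hU w⟩
    have : Fact (Nat.Prime 2) := ⟨Nat.prime_two⟩
    obtain ⟨s, hs⟩ := IsPGroup.iff_card.1 hU2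
    refine not_const_of_card hsq hU hq (W := ⊤) (by rw [Subgroup.card_top, hV]; norm_num) hc1 fun y _ hy => ?_
    by_contra hne'
    have h3 : 3 ≤ Nat.card U := by
      rw [Nat.card_eq_fintype_card]
      refine le_trans (le_of_eq ?_) (Finset.card_le_univ {(1 : U), c, q y})
      rw [Finset.card_insert_of_notMem, Finset.card_pair (Ne.symm hne')]
      simp only [Finset.mem_insert, Finset.mem_singleton, not_or]
      exact ⟨hc1.symm, fun e => hy (h0 y e.symm)⟩
    rw [hs] at h3 hlt
    rcases s with _ | _ | s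
    · norm_num at h3
    · norm_num at h3
    · rw [pow_succ, pow_succ] at hlt
      have := Nat.one_le_two_pow (n := s)
      omega
  have hclass : ∀ y, q y = c → ∃ i, u i = y := by
    intro y hy
    have hsum : ∑ a ∈ (Finset.univ.erase (1 : U)), (C a).card = 15 := by
      rw [← Finset.card_eq_sum_card_fiberwise (s := Finset.univ.erase (1 : V)) (f := q)
        (t := Finset.univ.erase (1 : U)) ?_ |>.trans (Finset.sum_congr rfl fun a ha => ?_)]
      · rw [Finset.card_erase_of_mem (Finset.mem_univ _), Finset.card_univ, ← Nat.card_eq_fintype_card, hV]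
      · intro z hz
        exact Finset.mem_erase.2 ⟨fun e => (Finset.mem_erase.1 hz).1 (h0 z e), Finset.mem_univ _⟩
      · congr 1
        ext z
        simp only [C, Finset.mem_filter, Finset.mem_erase, Finset.mem_univ, and_true, true_and]
        exact ⟨fun hz => hz.2, fun hz => ⟨fun e => (Finset.mem_erase.1 ha).1 (hz ▸ e ▸ hq.1), hz⟩⟩
    have hmin : ∀ a ∈ Finset.univ.erase (1 : U), 5 ≤ (C a).card := fun a ha => by
      obtain ⟨z, hz, rfl⟩ := hall a (Finset.mem_erase.1 ha).1
      exact hC z hz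
    have hc5 : (C c).card = 5 := by
      rw [← Finset.add_sum_erase _ _ (Finset.mem_erase.2 ⟨hc1, Finset.mem_univ c⟩)] at hsum
      have h10 := Finset.card_nsmul_le_sum ((Finset.univ.erase (1 : U)).erase c) (fun a => (C a).card) 5
        fun a ha => hmin a (Finset.mem_of_mem_erase ha)
      rw [Finset.card_erase_of_mem (Finset.mem_erase.2 ⟨hc1, Finset.mem_univ c⟩),
        Finset.card_erase_of_mem (Finset.mem_univ _), Finset.card_univ, ← Nat.card_eq_fintype_card, hU4] at h10
      have := hmin c (Finset.mem_erase.2 ⟨hc1, Finset.mem_univ c⟩)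
      simp only [smul_eq_mul] at h10
      omega
    have heq : Finset.univ.image u = C c := by
      refine Finset.eq_of_subset_of_card_le (fun z hz => ?_) ?_
      · obtain ⟨i, -, rfl⟩ := Finset.mem_image.1 hz
        exact Finset.mem_filter.2 ⟨Finset.mem_univ _, hqu i⟩
      · rw [hc5, Finset.card_image_of_injective _ hu, Finset.card_univ, Fintype.card_fin]
    have hyC : y ∈ C c := Finset.mem_filter.2 ⟨Finset.mem_univ _, hy⟩
    rw [← heq] at hyC
    obtain ⟨i, -, hi⟩ := Finset.mem_image.1 hyC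
    exact ⟨i, hi⟩
  -- the shift
  have hshift : ∀ i : Fin 5, σ (u i) = u (i + 1) := by
    intro i
    have h5 : ∀ m : ℕ, σ ^ m = σ ^ (m % 5) := fun m => by
      conv_lhs => rw [← Nat.div_add_mod m 5, pow_add, pow_mul, hg, one_pow, one_mul]
    show σ ((σ ^ (i : ℕ)) x) = (σ ^ ((i + 1 : Fin 5) : ℕ)) x
    rw [← MulAut.mul_apply, ← pow_succ', h5 (↑i + 1)]
    congr 2
  have hpair : ∀ (i d : Fin 5), q (u i * u (i + d)) = q (u 0 * u d) := by
    intro i d
    induction i using Fin.induction with
    | zero => simp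
    | succ j ih =>
      rw [← Fin.coeSucc_eq_succ, add_right_comm, ← hshift, ← hshift, ← map_mul, hP.inv]
      exact ih
  -- the permutation induced by `h`
  have hperm : ∀ i, ∃ j, u j = φ h (u i) := fun i => hclass _ (by rw [hP.inv, hqu])
  choose π hπ using hperm
  have hπinj : Function.Injective π := fun a b e => hu ((φ h).injective (by rw [← hπ, ← hπ, e]))
  set τ : Equiv.Perm (Fin 5) := Equiv.ofBijective π (Finite.injective_iff_bijective.1 hπinj)
  have hτ : ∀ i, u (τ i) = φ h (u i) := hπ
  have hτ3 : τ ^ 3 = 1 := by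
    refine Equiv.ext fun i => hu ?_
    show u (τ (τ (τ i))) = u i
    rw [hτ, hτ, hτ]
    show (φ h * φ h * φ h) (u i) = u i
    rw [← pow_three', hh]; rfl
  -- the orbit generates
  have hgen : closure (Set.range u) = ⊤ := by
    set S := closure (Set.range u)
    have hSinv : ∀ z ∈ S, σ z ∈ S := by
      intro z hz
      have : S ≤ S.comap σ.toMonoidHom := by
        refine (closure_le _).2 ?_
        rintro _ ⟨i, rfl⟩
        exact subset_closure ⟨i + 1, (hshift i).symm⟩
      exact this hz
    let f : Function.End S := fun z => ⟨σ z, hSinv z z.2⟩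
    have hmem : (6 : ℕ) ≤ Nat.card S := by
      rw [Nat.card_eq_fintype_card]
      refine le_trans (le_of_eq ?_) (Finset.card_le_univ (insert (1 : S)
        (Finset.univ.image fun i => (⟨u i, subset_closure ⟨i, rfl⟩⟩ : S))))
      rw [Finset.card_insert_of_notMem, Finset.card_image_of_injective _ fun a b e => hu (congrArg Subtype.val e),
        Finset.card_univ, Fintype.card_fin]
      simp only [Finset.mem_image, Finset.mem_univ, true_and, not_exists]
      intro i e
      exact hc1 ((hqu i).symm.trans ((congrArg q (congrArg Subtype.val e)).trans hq.1))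
    have hS : S.map σ.toMonoidHom = S :=
      Subgroup.eq_of_le_of_card_ge (Subgroup.map_le_iff_le_comap.2 hSinv)
        (by rw [Subgroup.card_map_of_injective σ.injective])
    let τS : MulAut S := (S.equivMapOfInjective σ.toMonoidHom σ.injective).trans (MulEquiv.subgroupCongr hS)
    have hτS : ∀ (i : ℕ) (z : S), (((τS ^ i) z : S) : V) = (σ ^ i) z := by
      intro i z
      induction i with
      | zero => rfl
      | succ i ih =>
        rw [pow_succ', pow_succ', MulAut.mul_apply, MulAut.mul_apply, ← ih]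
        rfl
    have h5 : τS ^ 5 = 1 := MulEquiv.ext fun z => Subtype.ext (by rw [hτS, hg]; rfl)
    have hmod := card_fixSub_modEq τS h5
    have hbot : fixSub τS = ⊥ := by
      rw [Subgroup.eq_bot_iff_forall]
      intro z hz
      exact Subtype.ext (hfix' _ (congrArg Subtype.val hz))
    rw [hbot, Subgroup.card_bot] at hmod
    have hd := S.card_subgroup_dvd_card
    rw [hV] at hd
    refine Subgroup.eq_top_of_card_eq _ ?_
    rw [hV]
    have := Nat.le_of_dvd (by norm_num) hd
    interval_cases hh : Nat.card S <;> norm_num at hd <;> first | rfl | exact absurd hmod (by decide)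
  have hτne : τ ≠ 1 := by
    intro e
    refine hne (MulEquiv.ext fun z => ?_)
    have : closure (Set.range u) ≤ fixSub (φ h) := by
      refine (closure_le _).2 ?_
      rintro _ ⟨i, rfl⟩
      show φ h (u i) = u i
      rw [← hτ, e]; rfl
    exact this (hgen ▸ mem_top z)
  -- all pairs have one value
  obtain ⟨i, hi⟩ := perm_five_step τ hτ3 hτne
  have h12 : q (u 0 * u 1) = q (u 0 * u 2) := by
    rw [← hpair i 1, ← hP.inv h (u i * u (i + 1)), map_mul, ← hτ, ← hτ]
    rcases hi with hi | hi
    · rw [← hpair (τ i) 2, ← hi, add_sub_cancel]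
    · rw [← hpair (τ (i + 1)) 2, show τ (i + 1) + 2 = τ i by
        rw [← sub_add_cancel (τ (i + 1)) (τ i), hi, add_right_comm, show (3 : Fin 5) + 2 = 0 from rfl, zero_add],
        mul_comm]
  set β := q (u 0 * u 1)
  have hp1 : ∀ j : Fin 5, q (u j * u (j + 1)) = β := fun j => hpair j 1
  have hp2 : ∀ j : Fin 5, q (u j * u (j + 2)) = β := fun j => (hpair j 2).trans h12.symm
  have hp3 : ∀ j : Fin 5, q (u j * u (j + 3)) = β := fun j => by
    have := hp2 (j + 3)
    rwa [add_assoc, show (3 : Fin 5) + 2 = 0 from rfl, add_zero, mul_comm] at this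
  -- the five elements multiply to the identity
  have hprod : u 0 * u 1 * u 2 * u 3 * u 4 = 1 := by
    refine hfix' _ ?_
    simp only [map_mul, hshift]
    show u 1 * u 2 * u 3 * u 4 * u 0 = _
    simp only [mul_comm, mul_left_comm, mul_assoc]
  have h4 : u 0 * u 1 * u 2 * u 3 = u 4 := mul_right_cancel (hprod.trans (hsq _).symm)
  refine hc1 ((hqu 4).symm.trans ?_)
  have e23 : q (u 2 * u 3) = β := hp1 2
  have e02 : q (u 0 * u 2) = β := hp2 0
  have e03 : q (u 0 * u 3) = β := hp3 0
  have e12 : q (u 1 * u 2) = β := hp1 1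
  have e13 : q (u 1 * u 3) = β := hp2 1
  rw [← h4, mul_assoc _ (u 2) (u 3), hq.2 (u 0) (u 1) (u 2 * u 3), ← mul_assoc (u 0) (u 2) (u 3),
    ← mul_assoc (u 1) (u 2) (u 3), hq.2 (u 0) (u 2) (u 3), hq.2 (u 1) (u 2) (u 3), hqu 0, hqu 1, hqu 2, hqu 3,
    e02, e03, e12, e13, e23]
  have hU' : ∀ a b : U, a * (a * b) = b := fun a b => by rw [← mul_assoc, hU, one_mul]
  rw [show q (u 0 * u 1) = β from rfl]
  simp [mul_comm, mul_left_comm, hU, hU']

/-- Value group of order at most four, no nonzero zero. -/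
theorem isSolvable_of_anisotropic (hsq : ∀ v : V, v * v = 1) [Finite U] (hU : ∀ w : U, w * w = 1)
    (hcU : Nat.card U ≤ 4) (hq : IsQuad q) (h0 : ∀ v, q v = 1 → v = 1) (hP : Preserves φ q) :
    Group.IsSolvable G := by
  have hV : IsPGroup 2 V := fun v => ⟨1, by rw [pow_one, pow_two]; exact hsq v⟩
  have hc : Nat.card V ≤ 16 := card_le_of_anisotropic hV hU (r := 2) le_rfl hcU hq h0
  by_contra hns
  have hnp : ∀ p : ℕ, p.Prime → p ≠ 2 → ¬ Solvable.IsPiNum {2, p} (Nat.card G) := fun p hp hp2 h =>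
    hns (Solvable.isSolvable_of_card_two_primes Nat.prime_two hp (Ne.symm hp2) h)
  have hel : ∀ r : ℕ, r.Prime → r ∣ Nat.card G → ∃ g : G, φ g ^ r = 1 ∧ φ g ≠ 1 := by
    intro r hr hd
    have := Fact.mk hr
    obtain ⟨g, hg⟩ := exists_prime_orderOf_dvd_card' r hd
    refine ⟨g, by rw [← map_pow, ← hg, pow_orderOf_eq_one, map_one], fun e => ?_⟩
    rw [show g = 1 from hP.inj (e.trans (map_one φ).symm), orderOf_one] at hg
    exact hr.ne_one hg.symm
  have h235 : ∀ r : ℕ, r.Prime → r ∣ Nat.card G → r = 2 ∨ r = 3 ∨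
      (r = 5 ∧ Nat.card V = 16 ∧ ∃ g : G, φ g ^ 5 = 1 ∧ fixSub (φ g) = ⊥) := by
    intro r hr hd
    rcases Nat.lt_or_ge r 5 with h | h
    · have := hr.two_le
      interval_cases r
      · exact Or.inl rfl
      · exact Or.inr (Or.inl rfl)
      · norm_num at hr
    · have := Fact.mk hr
      obtain ⟨g, hg, hg1⟩ := hel r hr hd
      rcases prime_cases hV hc h (φ g) hg hg1 with ⟨rfl, h16, hb⟩ | ⟨rfl, h8, hk⟩
      · exact Or.inr (Or.inr ⟨rfl, h16, g, hg, hb⟩)
      · exact (no_seven hsq hU hq h0 hP hg h8 hk).elim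
  by_cases h3 : 3 ∣ Nat.card G
  · have h5 : 5 ∣ Nat.card G := by
      by_contra h5
      refine hnp 3 Nat.prime_three (by norm_num) fun r hr hd => ?_
      rcases h235 r hr hd with rfl | rfl | ⟨rfl, -⟩
      · exact Or.inl rfl
      · exact Or.inr rfl
      · exact absurd hd h5
    rcases h235 5 (by norm_num) h5 with h | h | ⟨-, h16, g, hg, hb⟩
    · norm_num at h
    · norm_num at h
    obtain ⟨k, hk, hk1⟩ := hel 3 Nat.prime_three h3
    exact no_five_three hsq hU hcU hq h0 hP hg h16 hb hk hk1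
  · refine hnp 5 (by norm_num) (by norm_num) fun r hr hd => ?_
    rcases h235 r hr hd with rfl | rfl | ⟨rfl, -⟩
    · exact Or.inl rfl
    · exact absurd hd h3
    · exact Or.inr rfl

/-- Value group of order at most two, at most one nonzero zero. -/
theorem isSolvable_of_le_two_zeros (hsq : ∀ v : V, v * v = 1) [Finite U] (hU : ∀ w : U, w * w = 1)
    (hcU : Nat.card U ≤ 2) (hq : IsQuad q) {e : V} (he : e ≠ 1) (he0 : q e = 1)
    (h0 : ∀ v, q v = 1 → v = 1 ∨ v = e) (hP : Preserves φ q) : Group.IsSolvable G := by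
  have hV : IsPGroup 2 V := fun v => ⟨1, by rw [pow_one, pow_two]; exact hsq v⟩
  have hge : ∀ g, φ g e = e := fun g => (h0 _ ((hP.inv g e).trans he0)).resolve_left
    fun h => he ((φ g).map_eq_one_iff.1 h)
  -- a complement of `⟨e⟩`
  obtain ⟨M, -, hM⟩ := Finite.exists_le_maximal (α := Subgroup V) (p := fun M => e ∉ M) (a := ⊥)
    (by simpa using he)
  have hcover : ∀ v : V, v ∈ M ∨ v * e ∈ M := by
    intro v
    by_contra hv
    rw [not_or] at hv
    have : e ∈ M ⊔ zpowers v := by
      by_contra he'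
      exact hv.1 (hM.2 he' le_sup_left (mem_sup_right (mem_zpowers v)))
    obtain ⟨m, hm, w, hw, hmw⟩ := Subgroup.mem_sup.1 this
    obtain ⟨k, rfl⟩ := Subgroup.mem_zpowers_iff.1 hw
    have hv2 : v ^ (2 : ℤ) = 1 := by rw [zpow_two]; exact hsq v
    rcases Int.even_or_odd' k with ⟨j, rfl | rfl⟩
    · rw [zpow_mul, hv2, one_zpow, mul_one] at hmw
      exact hM.1 (hmw ▸ hm)
    · rw [zpow_add, zpow_mul, hv2, one_zpow, one_mul, zpow_one] at hmw
      refine hv.2 ?_
      rw [← hmw, mul_left_comm, hsq, mul_one]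
      exact hm
  have hM4 : Nat.card M ≤ 4 := by
    refine card_le_of_anisotropic (hV.to_subgroup M) hU (r := 1) (by norm_num) (by simpa using hcU)
      (q := fun x : M => q x) ⟨hq.1, fun x y z => hq.2 x y z⟩ fun v hv => ?_
    exact (h0 _ hv).elim (fun h => Subtype.ext h) fun h => absurd (h ▸ v.2) hM.1
  set E := zpowers e
  have hQ : Nat.card (V ⧸ E) ≤ 4 := by
    refine le_trans (Nat.card_le_card_of_surjective (fun m : M => (QuotientGroup.mk (m : V) : V ⧸ E)) ?_) hM4
    intro w
    obtain ⟨v, rfl⟩ := QuotientGroup.mk_surjective w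
    rcases hcover v with h | h
    · exact ⟨⟨v, h⟩, rfl⟩
    · refine ⟨⟨v * e, h⟩, ?_⟩
      show ((v * e : V) : V ⧸ E) = v
      rw [QuotientGroup.eq, mul_inv_rev, inv_mul_cancel_right]
      exact inv_mem (mem_zpowers e)
  have hEinv : ∀ g, E.map (φ g).toMonoidHom = E := fun g => by
    rw [MonoidHom.map_zpowers]
    exact congrArg zpowers (hge g)
  let f : G →* Equiv.Perm (V ⧸ E) :=
    { toFun := fun g => (QuotientGroup.congr E E (φ g) (hEinv g)).toEquiv
      map_one' := by
        ext v
        induction v using QuotientGroup.induction_on with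
        | _ v => simp
      map_mul' := fun a b => by
        ext v
        induction v using QuotientGroup.induction_on with
        | _ v => simp; rfl }
  have := Frobenius.isSolvable_perm_of_card_le hQ
  have hker : ∀ g ∈ f.ker, ∀ v, φ g v = v ∨ φ g v = v * e := by
    intro g hg v
    have h1 : (QuotientGroup.congr E E (φ g) (hEinv g)) (v : V ⧸ E) = (v : V ⧸ E) :=
      congrArg (fun σ : Equiv.Perm (V ⧸ E) => σ (v : V ⧸ E)) (MonoidHom.mem_ker.1 hg)
    have h2 : v⁻¹ * φ g v ∈ E := QuotientGroup.eq.1 h1.symm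
    obtain ⟨k, hk⟩ := Subgroup.mem_zpowers_iff.1 h2
    have he2 : e ^ (2 : ℤ) = 1 := by rw [zpow_two]; exact hsq e
    rcases Int.even_or_odd' k with ⟨j, rfl | rfl⟩
    · left
      rw [zpow_mul, he2, one_zpow] at hk
      exact (inv_mul_eq_one.1 hk.symm).symm
    · right
      rw [zpow_add, zpow_mul, he2, one_zpow, one_mul, zpow_one] at hk
      rw [hk, mul_inv_cancel_left]
  have : Group.IsSolvable f.ker := Group.isSolvable_of_comm fun a b => Subtype.ext <| hP.inj <|
    MulEquiv.ext fun v => by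
      simp only [Subgroup.coe_mul, map_mul, MulAut.mul_apply]
      rcases hker a a.2 v with ha | ha <;> rcases hker b b.2 v with hb | hb <;>
        simp [ha, hb, map_mul, hge, mul_assoc]
  exact Group.isSolvable_of_ker_le_range f.ker.subtype f (by rw [range_subtype])

end Cfsg.Agent.ThreeInvol
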