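import Cfsg.Agent.EqLemmas

/-!
Degree of functions on an elementary abelian 2-group and quadratic maps with few zeros
(namespace `Cfsg.Agent.ThreeInvol`).

* `Deg d f`: all `(d+1)`-th differences vanish; `Deg.mul`, `Deg.sum_eq_zero`
* `IsQuad q`: the third difference of `q` vanishes
* `card_lt_of_anisotropic`: anisotropic quadratic maps into a group of order `2^r`, `r ≤ 2`, live in dimension `≤ 2r`
-/

set_option autoImplicit false

namespace Cfsg.Agent.ThreeInvol

open Subgroup

variable {V : Type*} [CommGroup V]

/-- All `(d+1)`-th differences vanish. -/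
def Deg : ℕ → (V → ZMod 2) → Prop
  | 0, f => ∀ x y, f x = f y
  | d + 1, f => ∀ v, Deg d fun x => f (x * v) + f x

theorem Deg.succ : ∀ {d : ℕ} {f : V → ZMod 2}, Deg d f → Deg (d + 1) f
  | 0, f, h => fun v x y => congrArg₂ (· + ·) (h (x * v) (y * v)) (h x y)
  | _ + 1, _, h => fun v => (h v).succ

theorem Deg.const : ∀ (d : ℕ) (c : ZMod 2), Deg d fun _ : V => c
  | 0, _ => fun _ _ => rfl
  | d + 1, c => fun _ => Deg.const d (c + c)

theorem Deg.add : ∀ {d : ℕ} {f g : V → ZMod 2}, Deg d f → Deg d g → Deg d fun x => f x + g x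
  | 0, f, g, hf, hg => fun x y => congrArg₂ (· + ·) (hf x y) (hg x y)
  | d + 1, f, g, hf, hg => fun v => by
    have e : (fun x => f (x * v) + g (x * v) + (f x + g x)) =
        fun x => (f (x * v) + f x) + (g (x * v) + g x) := funext fun x => add_add_add_comm _ _ _ _
    rw [e]
    exact (hf v).add (hg v)

theorem Deg.translate : ∀ {d : ℕ} {f : V → ZMod 2}, Deg d f → ∀ w, Deg d fun x => f (x * w)
  | 0, f, hf, w => fun x y => hf _ _
  | d + 1, f, hf, w => fun v => by
    have := (hf v).translate w
    simpa [mul_right_comm] using this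

theorem Deg.mul_zero : ∀ {b : ℕ} {f g : V → ZMod 2}, Deg 0 f → Deg b g → Deg b fun x => f x * g x
  | 0, f, g, hf, hg => fun x y => congrArg₂ (· * ·) (hf x y) (hg x y)
  | b + 1, f, g, hf, hg => fun v => by
    have e : (fun x => f (x * v) * g (x * v) + f x * g x) = fun x => f x * (g (x * v) + g x) :=
      funext fun x => by rw [hf (x * v) x, mul_add]
    rw [e]
    exact Deg.mul_zero hf (hg v)

theorem Deg.mul : ∀ {a b : ℕ} {f g : V → ZMod 2}, Deg a f → Deg b g → Deg (a + b) fun x => f x * g x
  | 0, b, f, g, hf, hg => by rw [zero_add]; exact Deg.mul_zero hf hg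
  | a + 1, 0, f, g, hf, hg => by
    have := Deg.mul_zero hg hf
    simpa [mul_comm] using this
  | a + 1, b + 1, f, g, hf, hg => fun v => by
    have e : (fun x => f (x * v) * g (x * v) + f x * g x) =
        fun x => (f (x * v) + f x) * g (x * v) + f x * (g (x * v) + g x) := funext fun x => by
      have : ∀ s t u w : ZMod 2, s * t + u * w = (s + u) * t + u * (t + w) := by decide
      exact this _ _ _ _
    rw [e]
    have h1 := Deg.mul (hf v) (hg.translate v)
    have h2 := Deg.mul hf (hg v)
    rw [show a + (b + 1) = a + 1 + b by omega] at h1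
    exact h1.add h2
  termination_by a b => a + b

theorem Deg.restrict : ∀ {d : ℕ} {f : V → ZMod 2}, Deg d f → ∀ W : Subgroup V, Deg d fun x : W => f x
  | 0, _, hf, _ => fun _ _ => hf _ _
  | _ + 1, _, hf, W => fun v => (hf v).restrict W

theorem two_mul_card_of_index_two {W : Subgroup V} (h : W.index = 2) :
    2 * Nat.card W = Nat.card V := by
  rw [← W.card_mul_index, h, mul_comm]

/-- A function of degree `d` has even weight in dimension `> d`. -/
theorem Deg.sum_eq_zero [Fintype V] {d : ℕ} {f : V → ZMod 2} (hV : IsPGroup 2 V) (hf : Deg d f)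
    (hcard : 2 ^ (d + 1) ∣ Nat.card V) : ∑ x, f x = 0 := by
  induction d generalizing V with
  | zero =>
    rw [Finset.sum_congr rfl fun x _ => hf x 1, Finset.sum_const, Finset.card_univ, nsmul_eq_mul,
      ← Nat.card_eq_fintype_card]
    obtain ⟨m, hm⟩ := hcard
    rw [hm, Nat.cast_mul]
    have : ((2 ^ (0 + 1) : ℕ) : ZMod 2) = 0 := by decide
    rw [this, zero_mul, zero_mul]
  | succ d ih =>
    classical
    have : Fact (Nat.Prime 2) := ⟨Nat.prime_two⟩
    obtain ⟨n, hn⟩ := IsPGroup.iff_card.1 hV
    have hn1 : d + 2 ≤ n := (Nat.pow_dvd_pow_iff_le_right (le_refl 2)).1 (hn ▸ hcard)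
    obtain ⟨W, hW⟩ := Sylow.exists_subgroup_card_pow_prime 2 (n := n - 1) (G := V)
      (hn ▸ pow_dvd_pow 2 (Nat.sub_le _ _))
    have hidx : W.index = 2 := by
      have h1 := W.card_mul_index
      rw [hW, hn] at h1
      have h2 : 2 ^ (n - 1) * W.index = 2 ^ (n - 1) * 2 := by
        rw [h1, ← pow_succ, Nat.sub_add_cancel (by omega)]
      exact Nat.eq_of_mul_eq_mul_left (by positivity) h2
    obtain ⟨v, hv⟩ := SetLike.exists_not_mem_of_ne_top W (fun h => by
      rw [h, Subgroup.index_top] at hidx; exact absurd hidx (by norm_num)) rfl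
    let e : W ⊕ W → V := Sum.elim (fun x => (x : V)) fun x => (x : V) * v
    have he : Function.Bijective e := by
      refine ⟨?_, fun y => ?_⟩
      · rintro (a | a) (b | b) hab <;> simp only [e, Sum.elim_inl, Sum.elim_inr] at hab
        · exact congrArg Sum.inl (Subtype.ext hab)
        · refine absurd ?_ hv
          have := W.mul_mem (W.inv_mem b.2) a.2
          rwa [hab, inv_mul_cancel_left] at this
        · refine absurd ?_ hv
          have := W.mul_mem (W.inv_mem a.2) b.2
          rwa [← hab, inv_mul_cancel_left] at this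
        · exact congrArg Sum.inr (Subtype.ext (mul_right_cancel hab))
      · by_cases hy : y ∈ W
        · exact ⟨Sum.inl ⟨y, hy⟩, rfl⟩
        · refine ⟨Sum.inr ⟨y * v⁻¹, ?_⟩, inv_mul_cancel_right y v⟩
          rw [Subgroup.mul_mem_iff_of_index_two hidx, inv_mem_iff]
          exact iff_of_false hy hv
    rw [← he.sum_comp f, Fintype.sum_sum_type, ← Finset.sum_add_distrib]
    have hd := ((hf v).restrict W)
    have h2 := ih (V := W) (f := fun x : W => f (x * v) + f x) (hV.to_subgroup W) hd (by
      rw [hW]; exact pow_dvd_pow 2 (by omega))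
    simpa [e, add_comm] using h2

variable {U : Type*} [CommGroup U]

/-- The third difference vanishes. -/
def IsQuad (q : V → U) : Prop :=
  q 1 = 1 ∧ ∀ x y z, q (x * y * z) = q (x * y) * q (x * z) * q (y * z) * q x * q y * q z

/-- The coordinate along an index two subgroup. -/
noncomputable def coord (K : Subgroup U) (w : U) : ZMod 2 := by
  classical exact if w ∈ K then 0 else 1

theorem coord_eq_zero {K : Subgroup U} {w : U} : coord K w = 0 ↔ w ∈ K := by
  classical
  unfold coord
  split_ifs with h <;> simp [h]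

theorem coord_mul {K : Subgroup U} (hK : K.index ∣ 2) (a b : U) : coord K (a * b) = coord K a + coord K b := by
  classical
  rcases (Nat.dvd_prime Nat.prime_two).1 hK with h | h
  · rw [Subgroup.index_eq_one.1 h]
    simp [coord]
  · unfold coord
    simp only [Subgroup.mul_mem_iff_of_index_two h]
    by_cases ha : a ∈ K <;> by_cases hb : b ∈ K <;> simp [ha, hb]
    decide

theorem deg_coord {q : V → U} (hq : IsQuad q) {K : Subgroup U} (hK : K.index ∣ 2) :
    Deg 2 fun x => coord K (q x) := by
  intro v w
  intro x y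
  have key : ∀ x, coord K (q (x * w * v)) + coord K (q (x * w)) + (coord K (q (x * v)) + coord K (q x)) =
      coord K (q (w * v)) + coord K (q w) + coord K (q v) := by
    intro x
    rw [hq.2 x w v]
    simp only [coord_mul hK]
    generalize coord K (q (x * w)) = a
    generalize coord K (q (x * v)) = b
    generalize coord K (q (w * v)) = c
    generalize coord K (q x) = d
    generalize coord K (q w) = e
    generalize coord K (q v) = f
    revert a b c d e f
    decide
  exact (key x).trans (key y).symm

/-- An anisotropic quadratic map with values in a group of order `2^r`, `r ≤ 2`, lives in dimension `≤ 2r`. -/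
theorem card_le_of_anisotropic [Finite V] (hV : IsPGroup 2 V) [Finite U] (hU : ∀ w : U, w * w = 1)
    {r : ℕ} (hr : r ≤ 2) (hcU : Nat.card U ≤ 2 ^ r) {q : V → U} (hq : IsQuad q)
    (h0 : ∀ v, q v = 1 → v = 1) : Nat.card V ≤ 2 ^ (2 * r) := by
  classical
  have : Fact (Nat.Prime 2) := ⟨Nat.prime_two⟩
  have hU2 : IsPGroup 2 U := fun w => ⟨1, by rw [pow_one, pow_two]; exact hU w⟩
  obtain ⟨s, hs⟩ := IsPGroup.iff_card.1 hU2
  have hsr : s ≤ r := (Nat.pow_le_pow_iff_right (by norm_num)).1 (hs ▸ hcU)
  -- at most `r` coordinates detect the identity of `U`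
  have hcoord : ∃ g : V → ZMod 2, Deg (2 * r) g ∧ ∀ x, g x = if q x = 1 then 1 else 0 := by
    have hone : ∀ K : Subgroup U, K.index ∣ 2 → Deg 2 fun x => 1 + coord K (q x) := fun K hK =>
      (Deg.const 2 1).add (deg_coord hq hK)
    by_cases h4 : s ≤ 1
    · have hbot : (⊥ : Subgroup U).index ∣ 2 := by
        rw [Subgroup.index_bot, hs]
        exact pow_dvd_pow 2 h4
      rcases Nat.eq_zero_or_pos r with rfl | hrpos
      · refine ⟨fun _ => 1, Deg.const _ 1, fun x => ?_⟩
        have : Subsingleton U := by
          rw [← Finite.card_le_one_iff_subsingleton]; exact hcU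
        rw [if_pos (Subsingleton.elim _ _)]
      · refine ⟨fun x => 1 + coord ⊥ (q x), ?_, fun x => ?_⟩
        · rcases (show r = 1 ∨ r = 2 by omega) with rfl | rfl
          · exact hone ⊥ hbot
          · exact (hone ⊥ hbot).succ.succ
        · unfold coord
          simp only [Subgroup.mem_bot]
          split_ifs <;> rfl
    · obtain rfl : r = 2 := by omega
      obtain rfl : s = 2 := by omega
      obtain ⟨a, ha⟩ : ∃ a : U, a ≠ 1 := by
        by_contra hne
        push Not at hne
        have : Subsingleton U := ⟨fun a b => (hne a).trans (hne b).symm⟩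
        rw [Nat.card_of_subsingleton (1 : U)] at hs
        norm_num at hs
      have hca : ∀ a : U, a ≠ 1 → Nat.card (zpowers a) = 2 := fun a ha => by
        rw [Nat.card_zpowers]
        exact orderOf_eq_prime (by rw [pow_two]; exact hU a) ha
      have hidx : ∀ a : U, a ≠ 1 → (zpowers a).index ∣ 2 := fun a ha => by
        have h := (zpowers a).card_mul_index
        rw [hca a ha, hs] at h
        exact ⟨1, by omega⟩
      obtain ⟨b, hb⟩ := SetLike.exists_not_mem_of_ne_top (zpowers a) (fun h => by
        have := hca a ha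
        rw [h, Subgroup.card_top, hs] at this
        norm_num at this) rfl
      have hb1 : b ≠ 1 := fun h => hb (h ▸ one_mem _)
      refine ⟨fun x => (1 + coord (zpowers a) (q x)) * (1 + coord (zpowers b) (q x)),
        Deg.mul (hone _ (hidx a ha)) (hone _ (hidx b hb1)), fun x => ?_⟩
      have hinf : zpowers a ⊓ zpowers b = ⊥ := by
        by_contra h
        obtain ⟨⟨c, hc⟩, hc0⟩ := Subgroup.ne_bot_iff_exists_ne_one.1 h
        have hc1 : c ≠ 1 := fun e => hc0 (Subtype.ext e)
        refine absurd ?_ hb
        have e : zpowers b = zpowers c := (Subgroup.eq_of_le_of_card_ge (Subgroup.zpowers_le.2 hc.2)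
            (by rw [hca b hb1, hca c hc1])).symm
        exact Subgroup.zpowers_le.2 hc.1 (e ▸ mem_zpowers b)
      unfold coord
      by_cases hqx : q x = 1
      · simp [hqx, one_mem]
      · rw [if_neg hqx]
        by_cases h1 : q x ∈ zpowers a
        · have h2 : q x ∉ zpowers b := fun h2 => hqx (Subgroup.mem_bot.1 (hinf.le ⟨h1, h2⟩))
          simp [h1, h2]
          rfl
        · simp [h1]
          exact Or.inl rfl
  obtain ⟨g, hg, hgx⟩ := hcoord
  have := Fintype.ofFinite V
  obtain ⟨n, hn⟩ := IsPGroup.iff_card.1 hV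
  rw [hn]
  refine Nat.pow_le_pow_right (by norm_num) ?_
  by_contra hlt
  have hsum := hg.sum_eq_zero hV (hn ▸ pow_dvd_pow 2 (by omega))
  rw [Finset.sum_congr rfl fun x _ => hgx x, Finset.sum_eq_single (1 : V)] at hsum
  · rw [if_pos hq.1] at hsum
    exact one_ne_zero hsum
  · exact fun b _ hb => if_neg fun h => hb (h0 b h)
  · exact fun h => absurd (Finset.mem_univ _) h

end Cfsg.Agent.ThreeInvol
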